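import Mathlib
import Cfsg.Agent.Lib.Orth12.Simple
import Cfsg.Agent.Lib.Schur.RealF
import Cfsg.Agent.Lib.Stein.Cover

/-!
The spin group as a stem extension of `Ω(Q)` in odd characteristic.
-/

set_option autoImplicit false

open scoped commutatorElement

namespace H63.Spin

open CliffordAlgebra QuadraticMap H12 Module

variable {F V : Type*} [Field F] [AddCommGroup V] [Module F V] {Q : QuadraticForm F V}

lemma isCyclic_four {A : Type*} [Group A] [Finite A] (h : Nat.card A = 4) (z : A) (hz : z * z ≠ 1) :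
    IsCyclic A :=
  have := Fact.mk Nat.prime_two
  isCyclic_of_orderOf_eq_card z (h ▸ orderOf_eq_prime_pow (p := 2) (n := 1) (by rwa [← pow_two] at hz)
    (by rw [← pow_card_eq_one' (x := z), h]; norm_num))

lemma anti {a b : V} (h : polar Q a b = 0) : ι Q a * ι Q b = -(ι Q b * ι Q a) := by
  rw [ι_mul_ι_comm, h]; simp

/-- The part of the Clifford algebra generated by a subspace. -/
def CW (Q : QuadraticForm F V) (W : Submodule F V) : Submodule F (CliffordAlgebra Q) :=
  sInf {S | 1 ∈ S ∧ ∀ w ∈ W, ∀ x ∈ S, ι Q w * x ∈ S}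

lemma one_mem (W : Submodule F V) : 1 ∈ CW Q W := Submodule.mem_sInf.2 fun _ h => h.1

lemma mul_mem {W : Submodule F V} {w : V} (hw : w ∈ W) {x : CliffordAlgebra Q} (hx : x ∈ CW Q W) :
    ι Q w * x ∈ CW Q W :=
  Submodule.mem_sInf.2 fun S h => h.2 w hw x (Submodule.mem_sInf.1 hx S h)

lemma CW_le {W : Submodule F V} {S : Submodule F (CliffordAlgebra Q)} (h1 : 1 ∈ S)
    (h2 : ∀ w ∈ W, ∀ x ∈ S, ι Q w * x ∈ S) : CW Q W ≤ S := sInf_le ⟨h1, h2⟩

lemma eq_scalar_aux (s : Finset V) : ∀ x ∈ CW Q (Submodule.span F s),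
    (∀ d, contractLeft d x = 0) → x ∈ Submodule.span F {1} := by
  classical
  induction s using Finset.induction_on with
  | empty =>
    exact fun x hx _ => CW_le (Submodule.mem_span_singleton_self _) (by simp) hx
  | insert b s _ ih =>
    intro x hx h0
    by_cases hb : b ∈ Submodule.span F (s : Set V)
    · rw [Finset.coe_insert, Submodule.span_insert_eq_span hb] at hx
      exact ih x hx h0
    obtain ⟨d, h1, h2⟩ := Submodule.exists_dual_map_eq_bot_of_notMem hb inferInstance
    have h3 : CW Q (Submodule.span F s) ≤ LinearMap.ker (contractLeft d) :=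
      CW_le (contractLeft_one _ _) fun w hw x hx => by
        rw [LinearMap.mem_ker] at hx ⊢
        rw [contractLeft_ι_mul, hx, show d w = 0 from h2.le ⟨w, hw, rfl⟩]; simp
    have h4 : x ∈ CW Q (Submodule.span F s) ⊔ (CW Q (Submodule.span F s)).map
        (LinearMap.mulLeft F (ι Q b)) := by
      refine CW_le (Submodule.mem_sup_left (one_mem _)) (fun w hw x hx => ?_) hx
      rw [Finset.coe_insert, Submodule.mem_span_insert] at hw
      obtain ⟨c, w, hw, rfl⟩ := hw
      obtain ⟨y, hy, _, ⟨y', hy', rfl⟩, rfl⟩ := Submodule.mem_sup.1 hx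
      refine Submodule.mem_sup.2 ⟨ι Q w * y + (c * Q b + polar Q w b) • y',
        add_mem (mul_mem hw hy) (Submodule.smul_mem _ _ hy'), _,
        ⟨c • y - ι Q w * y', sub_mem (Submodule.smul_mem _ _ hy) (mul_mem hw hy'), rfl⟩, ?_⟩
      simp only [LinearMap.mulLeft_apply, map_add, map_smul, add_mul, mul_add, mul_sub, ← mul_assoc,
        smul_mul_assoc, mul_smul_comm, ι_sq_scalar, ι_mul_ι_comm w b, sub_mul, ← Algebra.smul_def]
      module
    obtain ⟨y, hy, _, ⟨y', hy', rfl⟩, rfl⟩ := Submodule.mem_sup.1 h4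
    have h5 := h0 d
    rw [map_add, LinearMap.mulLeft_apply, contractLeft_ι_mul, h3 hy, h3 hy', mul_zero, sub_zero,
      zero_add, smul_eq_zero_iff_right h1] at h5
    subst h5
    simp only [map_zero, add_zero] at h0 ⊢
    exact ih y hy h0

lemma ι_mul_sub (v : V) (x : CliffordAlgebra Q) :
    ι Q v * x - involute x * ι Q v = contractLeft (polarBilin Q v) x := by
  induction x using left_induction with
  | algebraMap r => simp [Algebra.commutes]
  | add x y hx hy => simp only [map_add, ← hx, ← hy]; noncomm_ring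
  | ι_mul x a hx =>
    rw [contractLeft_ι_mul, ← hx, ← mul_assoc, ι_mul_ι_comm v a, Algebra.smul_def]
    simp only [map_mul, involute_ι, polarBilin_apply_apply]; noncomm_ring

/-- Even central elements are scalars. -/
theorem eq_scalar [FiniteDimensional F V] (hQ : Nondeg Q) {x : CliffordAlgebra Q}
    (h1 : involute x = x) (h2 : ∀ v, x * ι Q v = ι Q v * x) : ∃ c, x = algebraMap F _ c := by
  obtain ⟨s, hs⟩ := Module.Finite.fg_top (R := F) (M := V)
  have : x ∈ CW Q (Submodule.span F s) := by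
    clear h1 h2
    induction x using left_induction with
    | algebraMap r =>
      rw [Algebra.algebraMap_eq_smul_one]; exact Submodule.smul_mem _ _ (one_mem _)
    | add x y hx hy => exact add_mem hx hy
    | ι_mul x a hx => exact mul_mem (hs ▸ Submodule.mem_top) hx
  obtain ⟨c, hc⟩ := Submodule.mem_span_singleton.1 (eq_scalar_aux s x this fun d => by
    obtain ⟨v, rfl⟩ := (LinearMap.BilinForm.toDual _ (nondeg_iff.1 hQ)).surjective d
    exact (ι_mul_sub v x).symm.trans (by rw [h1, h2, sub_self]))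
  exact ⟨c, by rw [← hc, Algebra.algebraMap_eq_smul_one]⟩

section lists

lemma anti_prod (v : V) (L : List V) (h : ∀ w ∈ L, polar Q v w = 0) :
    ι Q v * (L.map (ι Q)).prod = (-1 : F) ^ L.length • ((L.map (ι Q)).prod * ι Q v) := by
  induction L with
  | nil => simp
  | cons a L ih =>
    rw [List.map_cons, List.prod_cons, ← mul_assoc, anti (h a (by simp)), neg_mul, mul_assoc,
      ih fun w hw => h w (by simp [hw])]
    simp [pow_succ, mul_assoc]

lemma rev_prod (L : List V) (h : L.Pairwise fun a b => polar Q a b = 0) :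
    reverse (L.map (ι Q)).prod = (-1 : F) ^ L.length.choose 2 • (L.map (ι Q)).prod := by
  induction L with
  | nil => simp
  | cons a L ih =>
    rw [List.pairwise_cons] at h
    rw [List.map_cons, List.prod_cons, reverse.map_mul, ih h.2, anti_prod a L h.1, reverse_ι,
      List.length_cons, Nat.choose_succ_succ, Nat.choose_one_right, smul_smul, pow_add,
      mul_right_comm, ← mul_pow]
    simp

lemma mem_anti (L : List V) (h : L.Pairwise fun a b => polar Q a b = 0) (v : V) (hv : v ∈ L) :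
    ι Q v * (L.map (ι Q)).prod = (-1 : F) ^ (L.length + 1) • ((L.map (ι Q)).prod * ι Q v) := by
  induction L with
  | nil => simp at hv
  | cons a L ih =>
    rw [List.pairwise_cons] at h
    rw [List.map_cons, List.prod_cons, List.length_cons]
    rcases List.mem_cons.1 hv with rfl | hv
    · rw [mul_assoc]
      conv_lhs => rw [anti_prod v L h.1]
      simp [pow_succ]
    · rw [← mul_assoc, anti ((polar_comm _ _ _).trans (h.1 v hv)), neg_mul, mul_assoc, ih h.2 hv]
      simp [pow_succ, mul_assoc]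

end lists

variable (Q) in
/-- Even units of the Clifford algebra together with the isometry they induce. -/
def P : Subgroup ((CliffordAlgebra Q)ˣ × Om Q) where
  carrier := {z | involute z.1.1 = z.1.1 ∧ ∀ v, z.1.1 * ι Q v = ι Q (z.2.1.1 v) * z.1.1}
  one_mem' := by simp
  mul_mem' {a b} ha hb := ⟨by simp [ha.1, hb.1], fun v => by
    simp only [Prod.fst_mul, Units.val_mul, mul_assoc, hb.2]
    simp only [← mul_assoc, ha.2]; rfl⟩
  inv_mem' {a} ha := ⟨by
    rw [Prod.fst_inv, ← Units.mul_right_inj a.1, Units.mul_inv]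
    nth_rewrite 1 [← ha.1]
    rw [← map_mul, Units.mul_inv, map_one], fun v => by
    rw [Prod.fst_inv, Units.inv_mul_eq_iff_eq_mul, ← mul_assoc, ha.2, Units.mul_inv_cancel_right]
    exact congrArg _ (O.apply_inv_apply _ v).symm⟩

variable (Q) in
/-- The projection to `Ω`. -/
def pr : P Q →* Om Q := (MonoidHom.snd _ _).comp (P Q).subtype

lemma comm_of {x : CliffordAlgebra Q} (h : ∀ v, x * ι Q v = ι Q v * x) (y : CliffordAlgebra Q) :
    y * x = x * y := by
  induction y using left_induction with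
  | algebraMap r => exact Algebra.commutes _ _
  | add x y hx hy => rw [add_mul, mul_add, hx, hy]
  | ι_mul y a hy => rw [mul_assoc, hy, ← mul_assoc, ← h, mul_assoc]

lemma ker_le : (pr Q).ker ≤ Subgroup.center (P Q) := by
  rintro ⟨⟨x, g⟩, hx⟩ e
  obtain rfl : g = 1 := e
  exact Subgroup.mem_center_iff.2 fun y => Subtype.ext (Prod.ext (Units.ext (comm_of hx.2 _))
    (by simp))

variable (Q) in
/-- The norm. -/
def nrm : P Q →* Submonoid.center (CliffordAlgebra Q) where
  toFun z := ⟨reverse z.1.1.1 * z.1.1.1, Submonoid.mem_center_iff.2 (comm_of fun v => by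
    have := congrArg reverse (z.2.2 v)
    simp only [reverse.map_mul, reverse_ι] at this
    rw [mul_assoc, z.2.2, ← mul_assoc, ← this, mul_assoc])⟩
  map_one' := by simp
  map_mul' a b := Subtype.ext (by
    have h := comm_of (x := reverse a.1.1.1 * a.1.1.1) (fun v => by
      have := congrArg reverse (a.2.2 v)
      simp only [reverse.map_mul, reverse_ι] at this
      rw [mul_assoc, a.2.2, ← mul_assoc, ← this, mul_assoc]) (reverse b.1.1.1)
    simp only [Subgroup.coe_mul, Prod.fst_mul, Units.val_mul, reverse.map_mul, Submonoid.mk_mul_mk]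
    rw [← mul_assoc (reverse a.1.1.1 * a.1.1.1), ← h]; noncomm_ring)

lemma nrm_eq {z : P Q} (hz : z ∈ commutator (P Q)) : reverse z.1.1.1 * z.1.1.1 = 1 :=
  congrArg (fun u => u.1.1) (Abelianization.commutator_subset_ker (nrm Q).toHomUnits hz)

variable [Finite F] [FiniteDimensional F V] (hQ : Nondeg Q) (hn : 5 ≤ finrank F V)

include hQ hn

lemma pr_surj : Function.Surjective (pr Q) := by
  have hG := good_of_finrank_ne hQ (show finrank F V ≠ 4 by omega)
  obtain ⟨e, f, h⟩ := hQ.exists_hyp_of_three_le (by omega)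
  rintro ⟨g, hg⟩
  suffices ∀ u v, eich Q u v ∈ (pr Q).range.map (Om Q).subtype by
    obtain ⟨_, ⟨z, rfl⟩, rfl⟩ := h.Om_le_of_eich hQ hG (by omega) this hg
    exact ⟨z, rfl⟩
  intro u v
  by_cases k : Q u = 0 ∧ polar Q u v = 0
  swap; · rw [eich_of_not k]; exact Subgroup.one_mem _
  have e1 : ι Q u * ι Q u = 0 := by rw [ι_sq_scalar, k.1, map_zero]
  have e2 : ι Q v * ι Q u = -(ι Q u * ι Q v) := anti ((polar_comm _ _ _).trans k.2)
  have e3 : ι Q u * ι Q v * (ι Q u * ι Q v) = 0 := by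
    rw [mul_assoc, ← mul_assoc (ι Q v), e2, neg_mul, mul_neg, ← mul_assoc, ← mul_assoc, e1]; simp
  refine ⟨_, ⟨⟨(⟨1 + ι Q u * ι Q v, 1 - ι Q u * ι Q v, by noncomm_ring [e3], by noncomm_ring [e3]⟩,
    ⟨eich Q u v, eich_mem_Om hQ hG u v⟩), by simp, fun w => ?_⟩, rfl⟩, rfl⟩
  have e4 : ι Q v * (ι Q u * ι Q v) = -(Q v • ι Q u) := by
    rw [← mul_assoc, e2, neg_mul, mul_assoc, ι_sq_scalar, ← Algebra.commutes, Algebra.smul_def]
  have e5 : ι Q u * (ι Q u * ι Q v) = 0 := by rw [← mul_assoc, e1, zero_mul]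
  have e6 : ι Q u * ι Q v * ι Q w =
      ι Q w * (ι Q u * ι Q v) + polar Q w v • ι Q u - polar Q w u • ι Q v := by
    rw [mul_assoc, ι_mul_ι_comm v w, mul_sub, ← mul_assoc, ι_mul_ι_comm u w, polar_comm Q v,
      polar_comm Q u, ← Algebra.commutes, sub_mul, ← Algebra.smul_def, ← Algebra.smul_def, mul_assoc]
    abel
  simp only [eich_apply k.1 k.2, map_add, map_sub, map_smul, add_mul, mul_add, sub_mul, mul_one,
    one_mul, smul_mul_assoc, e4, e5, e6]
  module

variable (Q) in
/-- The spin group. -/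
abbrev Γ := commutator (P Q)

omit [Finite F] [FiniteDimensional F V] hQ hn in
variable (Q) in
/-- The spin covering. -/
def σ : Γ Q →* Om Q := (pr Q).comp (Γ Q).subtype

lemma map_Γ : (Γ Q).map (pr Q) = ⊤ := by
  rw [H78.Schur.map_commutator_of_surjective _ (pr_surj hQ hn), commutator_Om_eq_top hQ hn]

lemma perfect : commutator (Γ Q) = ⊤ := by
  have := H60.commutator_comap_map_le (pr Q) ker_le (Γ Q)
  rw [map_Γ hQ hn, Subgroup.comap_top] at this
  apply Subgroup.map_injective (Γ Q).subtype_injective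
  rw [Subgroup.map_subtype_commutator, ← MonoidHom.range_eq_map, Subgroup.range_subtype]
  exact le_antisymm (Subgroup.commutator_le_self _) this

theorem stem : Cfsg.IsStemExtension (σ Q) :=
  ⟨fun g => by
    obtain ⟨z, hz, e⟩ := (map_Γ hQ hn).ge (Subgroup.mem_top g)
    exact ⟨⟨z, hz⟩, e⟩, fun z hz => Subgroup.mem_center_iff.2 fun y =>
    Subtype.ext (Subgroup.mem_center_iff.1 (ker_le hz) y), by simp [perfect hQ hn]⟩

omit [Finite F] hn in
lemma ker_val {z : Γ Q} (hz : σ Q z = 1) : z.1.1.1.1 = 1 ∨ z.1.1.1.1 = -1 := by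
  obtain ⟨c, hc⟩ := eq_scalar hQ z.1.2.1 fun v => (z.1.2.2 v).trans
    (by rw [show z.1.1.2 = 1 from hz]; rfl)
  have := nrm_eq z.2
  rw [hc, reverse.commutes, ← map_mul] at this
  by_cases h : Nontrivial (CliffordAlgebra Q)
  · rw [map_eq_one_iff _ (algebraMap F _).injective, mul_self_eq_one_iff] at this
    rcases this with rfl | rfl <;> simp [hc]
  · exact Or.inl ((not_nontrivial_iff_subsingleton.1 h).elim _ _)

omit [Finite F] [FiniteDimensional F V] hQ hn in
lemma ext {z z' : Γ Q} (h : σ Q z = σ Q z') (h' : z.1.1.1.1 = z'.1.1.1.1) : z = z' :=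
  Subtype.ext (Subtype.ext (Prod.ext (Units.ext h') h))

omit [Finite F] hn in
lemma exists_pair {a b : V} (ha : Q a ≠ 0) (hb : Q b = Q a) :
    ∃ z : P Q, z.1.1.1 = ι Q a * ι Q b ∧ z.1.2.1 = refl Q a * refl Q b := by
  have e : ∀ a v, Q a ≠ 0 → ι Q a * ι Q v = -(ι Q ((refl Q a).1 v) * ι Q a) := fun a v ha => by
    rw [refl_apply, map_sub, map_smul, sub_mul, smul_mul_assoc, ι_sq_scalar, ι_mul_ι_comm,
      polar_comm, Algebra.algebraMap_eq_smul_one, Algebra.algebraMap_eq_smul_one, smul_smul,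
      mul_right_comm, inv_mul_cancel₀ ha]
    simp
  obtain ⟨x, hx⟩ := (isUnit_ι_of_isUnit Q ha.isUnit).mul (isUnit_ι_of_isUnit Q (hb ▸ ha).isUnit)
  refine ⟨⟨(x, ⟨_, refl_mul_refl_mem_Om hQ (v := b) (w := a) (hb ▸ ha) one_ne_zero
    (by simp [hb])⟩), by simp [hx], fun v => ?_⟩, hx, rfl⟩
  simp only [hx, mul_assoc, O.mul_apply]
  rw [e b v (hb ▸ ha), mul_neg, ← mul_assoc, e a _ ha]; simp [mul_assoc]

omit hQ hn [Finite F] [FiniteDimensional F V] in
lemma refl_commute {a b : V} (h : polar Q a b = 0) : Commute (refl Q a) (refl Q b) := by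
  have := refl_conj (refl Q a) b
  rwa [refl_apply_of_orth ((polar_comm _ _ _).trans h), mul_inv_eq_iff_eq_mul] at this

lemma exists_neg : ∃ ζ : Γ Q, σ Q ζ = 1 ∧ ζ.1.1.1.1 = -1 := by
  obtain ⟨a, b, w, h0, q1, q2, o1, o2, o3⟩ : ∃ a b w, Q w ≠ 0 ∧ Q a = Q w ∧ Q b = Q w ∧
      polar Q a w = 0 ∧ polar Q b w = 0 ∧ polar Q a b = 0 := by
    obtain ⟨e, f, h⟩ := hQ.exists_hyp_of_three_le (by omega)
    obtain ⟨e', he', f', hf', h'⟩ := h.exists_hyp_perp hQ hn
    obtain ⟨w, hw, hw', h0⟩ := h.exists_perp_perp_Q_ne hQ h' he' hf' (by omega)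
    refine ⟨_, _, w, h0, (h.Q_comb 1 (Q w)).trans (one_mul _),
      (h'.Q_comb 1 (Q w)).trans (one_mul _), ?_, ?_, ?_⟩ <;>
    simp only [polar_add_left, polar_add_right, B_smul_left, B_smul_right, he'.1, he'.2, hf'.1,
      hf'.2, hw.1, hw.2, hw'.1, hw'.2, mul_zero, add_zero]
  obtain ⟨x, x1, x2⟩ := exists_pair hQ (a := a) (b := w) (q1 ▸ h0) q1.symm
  obtain ⟨y, y1, y2⟩ := exists_pair hQ (a := w) (b := b) h0 q2
  have e1 : Commute (pr Q x) (pr Q y) := by
    refine Subtype.ext ?_
    change x.1.2.1 * y.1.2.1 = y.1.2.1 * x.1.2.1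
    rw [x2, y2]
    exact ((refl_commute o1).mul_right (refl_commute o3)).mul_left
      ((Commute.refl _).mul_right (refl_commute o2).symm)
  have e2 : x.1.1 * y.1.1 = -(y.1.1 * x.1.1) := Units.ext (by
    simp only [Units.val_mul, Units.val_neg, x1, y1]
    rw [mul_assoc, ← mul_assoc (ι Q w), ι_sq_scalar, mul_assoc, anti o1,
      mul_neg, mul_neg, ← mul_assoc (ι Q b), anti o2, neg_mul, mul_neg, ← mul_assoc (ι Q w),
      ← mul_assoc (ι Q w), ι_sq_scalar, ← Algebra.smul_def, mul_smul_comm, anti o3]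
    simp)
  refine ⟨⟨⁅x, y⁆, Subgroup.commutator_mem_commutator (Subgroup.mem_top x) (Subgroup.mem_top y)⟩,
    (map_commutatorElement (pr Q) x y).trans e1.commutator_eq, ?_⟩
  change (x.1.1 * y.1.1 * x.1.1⁻¹ * y.1.1⁻¹).1 = _
  rw [e2]; simp

variable (h2 : (2 : F) ≠ 0)

include h2

omit [Finite F] [FiniteDimensional F V] hQ hn in
lemma neg_one_ne : (-1 : CliffordAlgebra Q) ≠ 1 := fun e => by
  have := invertibleOfNonzero h2
  have : algebraMap F (CliffordAlgebra Q) 2 = 0 := by
    rw [map_ofNat, ← one_add_one_eq_two]; exact neg_eq_iff_add_eq_zero.1 e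
  exact h2 ((map_eq_zero_iff _ (algebraMap F _).injective).1 this)

theorem card_ker : Nat.card (σ Q).ker = 2 := by
  obtain ⟨ζ, h1, h3⟩ := exists_neg hQ hn
  refine (Nat.card_eq_two_iff' 1).2 ⟨⟨ζ, h1⟩, fun e => neg_one_ne h2 (h3.symm.trans ?_),
    fun z hz => Subtype.ext (ext (z.2.trans h1.symm) ?_)⟩
  · rw [show ζ = 1 from congrArg Subtype.val e]; rfl
  · exact ((ker_val hQ z.2).resolve_left fun e => hz (Subtype.ext (ext (z.2.trans (map_one _).symm) e))).trans h3.symm

theorem finite : Finite (Γ Q) := by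
  have : Finite V := Module.finite_of_finite F
  have : Finite (V ≃ₗ[F] V) := DFunLike.finite _
  have : Finite (σ Q).ker := Nat.finite_of_card_ne_zero (by rw [card_ker hQ hn h2]; decide)
  exact (MonoidHom.finite_iff_finite_ker_range (σ Q)).2 ⟨this, inferInstance⟩

omit hn [Finite F] in
/-- The square of a lift of `-1`. -/
theorem sq_lift {l : ℕ} (hl : finrank F V = 2 * l) {z : Γ Q} (hz : (σ Q z).1 = negO Q) :
    (z * z).1.1.1.1 = (-1) ^ l := by
  have := invertibleOfNonzero h2
  obtain ⟨b, hb⟩ := LinearMap.BilinForm.exists_orthogonal_basis (B := polarBilin Q)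
    ⟨fun x y => polar_comm _ _ _⟩
  have hp : (List.ofFn b).Pairwise fun x y => polar Q x y = 0 :=
    List.pairwise_ofFn.2 fun i j h => hb h.ne
  have h0 : (List.ofFn b).length = 2 * l := List.length_ofFn.trans hl
  have h1 := rev_prod _ hp
  have h3 := involute_prod_map_ι (Q := Q) (List.ofFn b)
  have h4 : ∀ v, ι Q v * ((List.ofFn b).map (ι Q)).prod = -(((List.ofFn b).map (ι Q)).prod * ι Q v) :=
    fun v => by
    rw [← b.sum_repr v]
    simp only [map_sum, map_smul, Finset.sum_mul, Finset.mul_sum, smul_mul_assoc, mul_smul_comm,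
      ← Finset.sum_neg_distrib]
    refine Finset.sum_congr rfl fun i _ => ?_
    rw [mem_anti _ hp _ (by simp), h0]
    simp [pow_succ]
  have h5 : IsUnit ((List.ofFn b).map (ι Q)).prod := List.prod_isUnit fun x hx => by
    obtain ⟨_, hv, rfl⟩ := List.mem_map.1 hx
    obtain ⟨i, rfl⟩ := List.mem_ofFn.1 hv
    refine isUnit_ι_of_isUnit Q (Ne.isUnit fun e => b.ne_zero i (hQ _ fun w => ?_))
    rw [← b.sum_repr w, B_sum_right]
    refine Finset.sum_eq_zero fun j _ => ?_
    rw [B_smul_right]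
    by_cases k : i = j
    · rw [← k, B_self, e]; simp
    · exact mul_eq_zero_of_right _ (hb k)
  rw [h0] at h1 h3
  rw [show (-1 : F) ^ (2 * l).choose 2 = (-1) ^ l by
    rw [Nat.choose_two_right, mul_assoc, Nat.mul_div_cancel_left _ two_pos]
    rcases l with _ | l
    · simp
    · rw [pow_mul', Odd.neg_one_pow ⟨l, by omega⟩]] at h1
  rw [pow_mul, neg_one_sq, one_pow, one_smul] at h3
  obtain ⟨ω, hω⟩ := h5
  rw [← hω] at h1 h3 h4
  have h6 : ∀ v, z.1.1.1.1 * ι Q v = -(ι Q v * z.1.1.1.1) := fun v => by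
    rw [z.1.2.2, show z.1.1.2.1 = negO Q from hz, negO_apply]; simp
  have h7 : involute ω⁻¹.1 = ω⁻¹.1 := by
    rw [← Units.mul_right_inj ω, Units.mul_inv]
    nth_rewrite 1 [← h3]
    rw [← map_mul, Units.mul_inv, map_one]
  obtain ⟨c, hc⟩ := eq_scalar hQ (x := z.1.1.1.1 * ω⁻¹.1) (by rw [map_mul, z.1.2.1, h7]) fun v => by
    rw [← mul_assoc, ← neg_neg (ι Q v * _), ← h6, neg_mul, mul_assoc, mul_assoc, ← mul_neg]
    congr 1
    rw [Units.inv_mul_eq_iff_eq_mul, mul_neg, ← mul_assoc, ← neg_mul, ← h4,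
      Units.mul_inv_cancel_right]
  have h8 := nrm_eq z.2
  rw [Units.mul_inv_eq_iff_eq_mul, ← Algebra.smul_def] at hc
  change z.1.1.1.1 * z.1.1.1.1 = _
  nth_rewrite 1 [hc] at h8
  rw [map_smul, h1, smul_comm, ← hc, smul_mul_assoc] at h8
  rcases neg_one_pow_eq_or F l with e | e <;> rcases Nat.even_or_odd l with k | k <;>
    simp_all [k.neg_one_pow, neg_eq_iff_eq_neg]

omit [Finite F] [FiniteDimensional F V] hQ hn h2 in
variable (Q) in
/-- The covering of the projective group. -/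
def τ : Γ Q →* Om Q ⧸ Subgroup.center (Om Q) := (QuotientGroup.mk' _).comp (σ Q)

omit h2 in
lemma stem_τ : Cfsg.IsStemExtension (τ Q) :=
  H60.isStem_comp (stem hQ hn) (St.stem_mk_center (commutator_Om_eq_top hQ hn))
    (commutator_Om_eq_top hQ hn)

lemma card_ker_τ : Nat.card (τ Q).ker = 2 * Nat.card (Subgroup.center (Om Q)) := by
  have := finite hQ hn h2
  rw [τ, H60.card_ker_comp (stem hQ hn).1 (QuotientGroup.mk'_surjective _), card_ker hQ hn h2,
    QuotientGroup.ker_mk']

omit h2 in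
lemma ker_τ_cases {z : Γ Q} (hz : z ∈ (τ Q).ker) : σ Q z = 1 ∨ (σ Q z).1 = negO Q := by
  obtain ⟨e, f, h⟩ := hQ.exists_hyp_of_three_le (by omega)
  exact ((h.mem_center_Om_iff hQ (good_of_finrank_ne hQ (by omega)) (by omega) _).1
    ((QuotientGroup.eq_one_iff _).1 hz)).imp_left Subtype.ext

variable (hM : Cfsg.HasCyclicSchurMultiplier (Om Q) 2)

include hM

theorem multiplier {A : Type*} [CommGroup A] (e : (τ Q).ker ≃* A) :
    Cfsg.HasSchurMultiplier (Om Q ⧸ Subgroup.center (Om Q)) A :=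
  have := finite hQ hn h2
  St.hasSchur_of_cover (stem_τ hQ hn) (H60.hasCyclic_of_cover hM (stem hQ hn) (perfect hQ hn)
    (Or.inr rfl) (by rw [card_ker hQ hn h2]; simp)) e

omit h2 in
theorem multiplier_two (h : negO Q ∉ Om Q) :
    Cfsg.HasCyclicSchurMultiplier (Om Q ⧸ Subgroup.center (Om Q)) 2 := by
  obtain ⟨e, f, k⟩ := hQ.exists_hyp_of_three_le (by omega)
  exact H78.Schur.hasSchurMultiplier_of_equiv hM (QuotientGroup.quotientBot.symm.trans
    (QuotientGroup.quotientMulEquivOfEq (k.card_center_Om_of_not_mem hQ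
      (good_of_finrank_ne hQ (by omega)) (by omega) (Or.inl h)).symm))

omit hM in
lemma card_four (h : negO Q ∈ Om Q) : Nat.card (τ Q).ker = 4 := by
  obtain ⟨e, f, k⟩ := hQ.exists_hyp_of_three_le (by omega)
  rw [card_ker_τ hQ hn h2,
    k.card_center_Om_of_mem hQ (good_of_finrank_ne hQ (by omega)) (by omega) h2 h]

theorem multiplier_four (h : negO Q ∈ Om Q) {l : ℕ} (hl : finrank F V = 2 * l) (ho : Odd l) :
    Cfsg.HasCyclicSchurMultiplier (Om Q ⧸ Subgroup.center (Om Q)) 4 := by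
  have h4 := card_four hQ hn h2 h
  have := finite hQ hn h2
  obtain ⟨z, hz⟩ := (stem hQ hn).1 ⟨_, h⟩
  have h1 := sq_lift hQ h2 hl (congrArg Subtype.val hz)
  have h3 : z ∈ (τ Q).ker := (QuotientGroup.eq_one_iff _).2 (Subgroup.mem_center_iff.2 fun g =>
    Subtype.ext (by rw [hz]; exact (negO_comm g.1).symm))
  have : IsCyclic (τ Q).ker := isCyclic_four h4 ⟨z, h3⟩ fun e => by
    rw [show z * z = 1 from congrArg Subtype.val e, ho.neg_one_pow] at h1
    exact neg_one_ne h2 h1.symm
  have e := (zmodCyclicMulEquiv this).symm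
  rw [h4] at e
  exact multiplier hQ hn h2 hM e

theorem multiplier_klein (h : negO Q ∈ Om Q) {l : ℕ} (hl : finrank F V = 2 * l) (he : Even l) :
    Cfsg.HasSchurMultiplier (Om Q ⧸ Subgroup.center (Om Q))
      (Multiplicative (ZMod 2 × ZMod 2)) := by
  have h4 := card_four hQ hn h2 h
  have := finite hQ hn h2
  have : Nontrivial (τ Q).ker := Finite.one_lt_card_iff_nontrivial.1 (by omega)
  have : IsKleinFour (τ Q).ker := ⟨h4, (Monoid.exponent_eq_prime_iff Nat.prime_two).2 fun z hz =>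
    haveI := Fact.mk Nat.prime_two
    orderOf_eq_prime (Subtype.ext (by
      change z.1 ^ 2 = 1
      rw [pow_two]
      rcases ker_τ_cases hQ hn z.2 with k | k
      · refine ext (by simp [k]) ?_
        change z.1.1.1.1.1 * z.1.1.1.1.1 = 1
        rcases ker_val hQ k with e | e <;> simp [e]
      · exact ext (Subtype.ext (by simp [k, negO_mul_self]))
          ((sq_lift hQ h2 hl k).trans he.neg_one_pow))) hz⟩
  exact multiplier hQ hn h2 hM IsKleinFour.nonempty_mulEquiv.some

end H63.Spin
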