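import Mathlib
import Cfsg.Agent.Lib.Stein.SpM
import Cfsg.Agent.Lib.Stein.Spin
import Cfsg.Agent.Lib.Orth12.Forms

/-!
The Schur multipliers of the orthogonal groups.
-/

set_option autoImplicit false

namespace H63.St.Orth

open QuadraticMap H12 Module

variable {F W : Type*} [Field F] [AddCommGroup W] [Module F W] {Q : QuadraticForm F W} {m : ℕ}

lemma polar_hypN (n : ℕ) (x y : (Fin n → F) × (Fin n → F) × W) : polar (hypN n Q) x y =
    ∑ i, (x.1 i * y.2.1 i + x.2.1 i * y.1 i) + polar Q x.2.2 y.2.2 := by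
  simp only [polar, hypN_apply, Prod.fst_add, Prod.snd_add, Pi.add_apply, add_mul, mul_add,
    Finset.sum_add_distrib, mul_comm (y.1 _) (x.2.1 _)]
  ring

variable (F W) in
/-- The standard frame. -/
def fr {n : ℕ} : Fin n ⊕ Fin n → (Fin n → F) × (Fin n → F) × W :=
  Sum.elim (fun i => (Pi.single i 1, 0, 0)) fun i => (0, Pi.single i 1, 0)

lemma polar_fr {n : ℕ} (x : (Fin n → F) × (Fin n → F) × W) (i : Fin n ⊕ Fin n) :
    polar (hypN n Q) x (fr F W i) = Sum.elim x.2.1 x.1 i := by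
  rcases i with i | i <;> simp [polar_hypN, fr, Pi.single_apply]

lemma finrank_hyp [FiniteDimensional F W] (n : ℕ) :
    finrank F ((Fin n → F) × (Fin n → F) × W) = 2 * n + finrank F W := by
  simp; ring

variable [FiniteDimensional F W] (hQ : Nondeg Q) (ha : ∀ v, Q v = 0 → v = 0)
  (hG : Good (hypN (m + 1) Q))

/-- The group `Ω` with its Eichler transformations. -/
noncomputable def E :
    Eich m F ((Fin (m + 1) → F) × (Fin (m + 1) → F) × W) (Om (hypN (m + 1) Q)) where
  σ := RingHom.id F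
  ε := 1
  B := polarBilin (hypN (m + 1) Q)
  Λ v c := hypN (m + 1) Q v = c
  ρ := LinearEquiv.automorphismGroup.toLinearMapMonoidHom.comp
    ((Subgroup.subtype _).comp (Subgroup.subtype _))
  e a := fr F W (J.idx a)
  σσ _ := rfl
  hε := Or.inl rfl
  B_swap x y := by simp [polar_comm]
  Λ_B h := by simp [B_self, h, two_mul]
  Λ_add h h' := by simp [Q_add, h, h', polar_comm]
  Λ_smul t h := by simp [Q_smul, h, pow_two]
  Λ_min _ := by simp
  Λ_ex _ := ⟨_, rfl⟩
  inj g g' h := Subtype.ext (O.ext fun v => congrArg (· v) h)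
  ρ_B g x y := O.map_B g.1 x y
  ρ_Λ g _ _ h := (O.map_Q g.1 _).trans h
  exT {u v c} h1 h2 h3 := ⟨⟨eich _ u v, eich_mem_Om (hQ.hypN _) hG u v⟩, fun x =>
    (eich_apply h1 h3 x).trans (by simp [h2])⟩
  e_Λ a := by rcases J.idx a with i | i <;> simp [fr, hypN_apply]
  e_B a b h := by
    have := J.idx_ne h
    rw [polarBilin_apply_apply, polar_fr]
    generalize J.idx a = i, J.idx b = j at *
    rcases i with i | i <;> rcases j with j | j <;> simp_all [fr, Pi.single_apply]
  e_ne a := by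
    rw [polarBilin_apply_apply, polar_fr, J.idx_rev]
    rcases J.idx a with j | j <;> simp [fr]
  aniso v h h' := by
    have k : ∀ i, Sum.elim v.2.1 v.1 i = 0 := fun i => by
      obtain ⟨a, rfl⟩ := J.idx_surj i
      exact (polar_fr v _).symm.trans (h a)
    have k1 : v.1 = 0 := funext fun i => k (.inr i)
    exact Prod.ext k1 (Prod.ext (funext fun i => k (.inl i)) (ha _ (by simpa [hypN_apply, k1] using h')))

lemma mem_V0 {v : (Fin (m + 1) → F) × (Fin (m + 1) → F) × W} :
    v ∈ (E hQ ha hG).V0 ↔ v = (0, 0, v.2.2) := by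
  refine ⟨fun h => ?_, fun h a => (polar_fr v _).trans ?_⟩
  · have k : ∀ i, Sum.elim v.2.1 v.1 i = 0 := fun i => by
      obtain ⟨a, rfl⟩ := J.idx_surj i
      exact (polar_fr v _).symm.trans (h a)
    exact Prod.ext (funext fun i => k (.inr i)) (Prod.ext (funext fun i => k (.inl i)) rfl)
  · rw [h]; rcases J.idx a with j | j <;> simp

lemma cl : (E hQ ha hG).Cl := fun _ => one_mul _

lemma gen (hn : 2 * (m + 1) + finrank F W ≠ 2) : (E hQ ha hG).Gen := fun A h => by
  have k : IsHyp (hypN (m + 1) Q) (fr F W (.inl 0)) (fr F W (.inr 0)) :=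
    ⟨by simp [fr, hypN_apply], by simp [fr, hypN_apply], by rw [polar_fr]; simp [fr]⟩
  rw [eq_top_iff]
  rintro ⟨g, hg⟩ -
  suffices ∀ u v, eich _ u v ∈ A.map (Om _).subtype by
    obtain ⟨x, hx, rfl⟩ := k.Om_le_of_eich (hQ.hypN _) hG (by rwa [finrank_hyp]) this hg
    exact hx
  intro u v
  by_cases e : hypN (m + 1) Q u = 0 ∧ polar (hypN (m + 1) Q) u v = 0
  · have h1 : (E hQ ha hG).Adm u v _ := ⟨e.1, rfl, e.2⟩
    exact ⟨_, h _ _ _ h1, O.ext fun x => (Eich.ρ_T h1 x).trans
      ((eich_apply e.1 e.2 x).trans (by simp [E]; rfl)).symm⟩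
  · rw [eich_of_not e]; exact one_mem _

section split

variable [Subsingleton W] [Finite F] {Γ : Type*} [Group Γ] {π : Γ →* Om (hypN (m + 1) Q)}
  (h : CE π) (hs : π.ker ≤ commutator Γ) {p : ℕ} [Fact p.Prime] [CharP F p]

omit [Finite F] in
lemma top (hm : 1 ≤ m) : ((cl hQ ha hG).hyp hm).rgd.Gp = ⊤ :=
  Eich.Hyp.top _ (gen hQ ha hG (by omega)) fun _ v c hv => by
    have := hv.2
    rw [(mem_V0 hQ ha hG).1 hv.1, Subsingleton.elim v.2.2 0] at this
    exact this.symm.trans (map_zero _)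

omit [Subsingleton W] in
instance : Finite (Om (hypN (m + 1) Q)) := by
  have : Finite W := Module.finite_of_finite F
  have : Finite (((Fin (m + 1) → F) × (Fin (m + 1) → F) × W) ≃ₗ[F]
    ((Fin (m + 1) → F) × (Fin (m + 1) → F) × W)) := DFunLike.finite _
  infer_instance

include hQ ha hG h hs

/-- The `p'`-part of the multiplier, plus type. -/
theorem card_ker_le_plus (hm : 1 ≤ m) (hk : KerPP π p) :
    Nat.card π.ker ≤ Nat.card (powMonoidHom 2 : Fˣ →* Fˣ).ker :=
  (Eich.Hyp.card_ker_le h hk _ (top hQ ha hG hm) hs).2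

theorem kerPP_plus (hm : 3 ≤ m) (h2 : m = 3 → Nat.card F ≠ 2) : KerPP π p := by
  refine Eich.Hyp.kerPP hs _ (top hQ ha hG (by omega)) ((cl hQ ha hG).good h hm ?_)
  have := Fintype.ofFinite F
  by_cases h4 : 4 ≤ Fintype.card F
  · exact Or.inr (Or.inl (H11.Sp.exists_sq_ne_one_of_card h4))
  have := Finite.one_lt_card (α := F)
  rw [← Nat.card_eq_fintype_card] at h4
  omega

end split

end H63.St.Orth

namespace H63.St.Orth

open QuadraticMap H12 Module

variable {F k : Type*} [Field F] [Field k] [Algebra F k] [FiniteDimensional F k]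
  {Q : QuadraticForm F k} {m : ℕ} (hQ : Nondeg Q) (τ : k →+* k) (hτ : ∀ s, τ (τ s) = s)
  (hN : ∀ s, algebraMap F k (Q s) = s * τ s) (hG : Good (hypN (m + 1) Q))

omit [FiniteDimensional F k] in
include hN in
lemma aniso (v : k) (h : Q v = 0) : v = 0 := by simpa [h] using hN v

/-- The short nodes. -/
noncomputable def A : (E hQ (aniso τ hN) hG).SNB k where
  τ := τ
  φ := (LinearMap.inr F _ _).comp (LinearMap.inr F _ _)
  N := Q
  Q := 1
  cl := cl _ _ _
  uniq c h := h.symm.trans (map_zero _)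
  ττ := hτ
  N_eq := hN
  Q_ne := one_ne_zero
  P s := ⟨(mem_V0 _ _ _).2 rfl, (hypN_apply _ _).trans (by simp)⟩
  surj v hv := ⟨_, ((mem_V0 _ _ _).1 hv).symm⟩

lemma nb : (E hQ (aniso τ hN) hG).NB := by
  obtain ⟨w, hw⟩ := hQ.exists_B_eq (v := 1) one_ne_zero 1
  exact ⟨(0, 0, 1), (mem_V0 _ _ _).2 rfl, (0, 0, w), (mem_V0 _ _ _).2 rfl,
    (polar_hypN _ _ _).trans (by simpa using hw)⟩

lemma topB : (A hQ τ hτ hN hG).hyp.rgd.Gp = ⊤ :=
  Eich.Hyp.top _ (gen _ _ _ (by have := finrank_pos (R := F) (M := k); omega)) (by simp)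

variable [Finite F] {Γ : Type*} [Group Γ] {π : Γ →* Om (hypN (m + 1) Q)}
  (h : CE π) (hs : π.ker ≤ commutator Γ) {p : ℕ} [Fact p.Prime] [CharP F p]

include hQ hτ hN hG h hs

/-- The `p'`-part of the multiplier, odd dimension and minus type. -/
theorem card_ker_le (hk : KerPP π p) :
    Nat.card π.ker ≤ Nat.card (powMonoidHom 2 : kˣ →* kˣ).ker :=
  have : Finite k := Module.finite_of_finite F
  ((A hQ τ hτ hN hG).sn.card_ker_le h hk _ (topB hQ τ hτ hN hG) hs).2.trans
    (Subgroup.card_le_of_le ((A hQ τ hτ hN hG).sn.ker_le _))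

theorem kerPP (hm : 2 ≤ m) (h2 : 4 ≤ Nat.card k ∨ 3 ≤ m ∧ Nat.card F ≠ 2) : KerPP π p := by
  have : Finite k := Module.finite_of_finite F
  have : CharP k p := charP_of_injective_algebraMap (algebraMap F k).injective p
  refine (A hQ τ hτ hN hG).sn.kerPP hs _ (topB hQ τ hτ hN hG)
    ((A hQ τ hτ hN hG).good h (topB hQ τ hτ hN hG) (nb hQ τ hN hG) hm (h2.imp ?_ ?_))
  · have := Fintype.ofFinite k
    exact fun h4 => H11.Sp.exists_sq_ne_one_of_card (Nat.card_eq_fintype_card (α := k) ▸ h4)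
  · have := Fintype.ofFinite F
    exact fun h4 => ⟨h4.1, exists_ne_zero_one (Nat.card_eq_fintype_card (α := F) ▸ h4.2)⟩

end H63.St.Orth

namespace H63.St.Orth

open QuadraticMap H12 Module Cfsg

universe u

variable {F : Type u} [Field F] [Finite F]

section general

variable {V : Type u} [AddCommGroup V] [Module F V] [FiniteDimensional F V] {Q : QuadraticForm F V}
  (hQ : Nondeg Q) (hn : 5 ≤ finrank F V)

include hQ hn

/-- The multiplier of `Ω` from the upper bound. -/
theorem mult_of_le {k : Type*} [Field k] [Algebra F k]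
    (hb : ∀ (Δ : Type u) [Group Δ] (τ : Δ →* Om Q), IsStemExtension τ →
      Nat.card τ.ker ≤ Nat.card (powMonoidHom 2 : kˣ →* kˣ).ker) :
    ((2 : F) ≠ 0 → HasCyclicSchurMultiplier (Om Q) 2) ∧
      ((2 : F) = 0 → HasCyclicSchurMultiplier (Om Q) 1) := by
  have : Finite V := Module.finite_of_finite F
  have : Finite (V ≃ₗ[F] V) := DFunLike.finite _
  refine ⟨fun h2 => ?_, fun h2 => H78.Schur.hasCyclic_one_iff.2 fun Δ _ _ τ hτ => ?_⟩
  · have := Fact.mk Nat.prime_two
    exact H78.Schur.hasSchurMultiplier_of_card (Spin.stem hQ hn)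
      (mulEquivOfPrimeCardEq (Spin.card_ker hQ hn h2) (by simp)) fun Δ _ _ τ hτ =>
      (hb Δ τ hτ).trans ((card_sq_le k).trans (by simp))
  · have : CharP F 2 := CharTwo.of_one_ne_zero_of_two_eq_zero one_ne_zero h2
    have : CharP k 2 := charP_of_injective_algebraMap (algebraMap F k).injective 2
    exact Subgroup.card_eq_one.1 (le_antisymm (card_sq_two k ▸ hb Δ τ hτ) Nat.card_pos)

theorem mult_even (h2 : (2 : F) = 0) (hM : HasCyclicSchurMultiplier (Om Q) 1) {A : Type*}
    [CommGroup A] [Unique A] : HasSchurMultiplier (Om Q ⧸ Subgroup.center (Om Q)) A := by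
  obtain ⟨e, f, k⟩ := hQ.exists_hyp_of_three_le (by omega)
  exact H78.Schur.hasSchurMultiplier_congr (H78.Schur.hasSchurMultiplier_of_equiv hM
    (QuotientGroup.quotientBot.symm.trans (QuotientGroup.quotientMulEquivOfEq
      (k.card_center_Om_of_not_mem hQ (good_of_finrank_ne hQ (by omega)) (by omega)
      (Or.inr (negO_eq_one_of_two_eq_zero h2))).symm))) MulEquiv.ofUnique

end general

theorem mult_plus {l : ℕ} (hl : 4 ≤ l) (h : l = 4 → Nat.card F ≠ 2) :
    ((2 : F) ≠ 0 → HasCyclicSchurMultiplier (Om (QPlus F l)) 2) ∧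
      ((2 : F) = 0 → HasCyclicSchurMultiplier (Om (QPlus F l)) 1) := by
  obtain ⟨m, rfl⟩ : ∃ m, l = m + 1 := ⟨l - 1, by omega⟩
  obtain ⟨p, hp⟩ := CharP.exists F
  have := Fact.mk (CharP.char_is_prime F p)
  have hQ : Nondeg (0 : QuadraticForm F (Fin 0 → F)) := fun _ _ => Subsingleton.elim _ _
  have hn := finrank_hyp (F := F) (W := Fin 0 → F) (m + 1)
  have hG := good_of_finrank_ne (hQ.hypN (m + 1)) (by omega)
  have e := (commCongr (congrO (plusEquiv F (m + 1)) (hypN_plusEquiv (m + 1)))).symm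
  exact (mult_of_le (hQ.hypN (m + 1)) (by omega) fun Δ _ τ hτ =>
    card_ker_le_plus hQ (fun _ _ => Subsingleton.elim _ _) hG (ce_of_stem hτ) hτ.2.2 (by omega)
      (kerPP_plus (p := p) hQ (fun _ _ => Subsingleton.elim _ _) hG (ce_of_stem hτ) hτ.2.2
        (by omega) (by omega))).imp (fun h h' => H78.Schur.hasSchurMultiplier_of_equiv (h h') e)
    fun h h' => H78.Schur.hasSchurMultiplier_of_equiv (h h') e

theorem mult_odd (h2 : (2 : F) ≠ 0) {l : ℕ} (hl : 3 ≤ l) (h : l = 3 → Nat.card F ≠ 3) :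
    HasCyclicSchurMultiplier (Om (QOdd F l)) 2 := by
  obtain ⟨m, rfl⟩ : ∃ m, l = m + 1 := ⟨l - 1, by omega⟩
  obtain ⟨p, hp⟩ := CharP.exists F
  have := Fact.mk (CharP.char_is_prime F p)
  have hQ := nondeg_sq h2
  have hn := finrank_hyp (F := F) (W := F) (m + 1)
  have hG := good_of_finrank_ne (hQ.hypN (m + 1)) (by omega)
  have hN : ∀ s, algebraMap F F (QuadraticMap.sq (R := F) s) = s * RingHom.id F s := fun s => by simp
  have := Fintype.ofFinite F
  have h3 := card_odd_of_two_ne_zero h2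
  have h4 := Finite.one_lt_card (α := F)
  rw [← Nat.card_eq_fintype_card] at h3
  exact H78.Schur.hasSchurMultiplier_of_equiv ((mult_of_le (hQ.hypN (m + 1)) (by omega)
    fun Δ _ τ hτ => card_ker_le hQ _ (fun _ => rfl) hN hG (ce_of_stem hτ) hτ.2.2
      (kerPP (p := p) hQ _ (fun _ => rfl) hN hG (ce_of_stem hτ) hτ.2.2 (by omega) (by omega))).1 h2)
    (commCongr (congrO (oddEquiv F (m + 1)) (hypN_oddEquiv (m + 1)))).symm

theorem mult_minus {a b : F} (hab : Aniso a b) {l : ℕ} (hl : 3 ≤ l) :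
    ((2 : F) ≠ 0 → HasCyclicSchurMultiplier (Om (QMinus l a b)) 2) ∧
      ((2 : F) = 0 → HasCyclicSchurMultiplier (Om (QMinus l a b)) 1) := by
  obtain ⟨m, rfl⟩ : ∃ m, l = m + 1 := ⟨l - 1, by omega⟩
  obtain ⟨p, hp⟩ := CharP.exists F
  have := Fact.mk (CharP.char_is_prime F p)
  have := hab.fact
  have hQ := hab.nondeg_normForm
  have hn := finrank_hyp (F := F) (W := KA a b) (m + 1)
  have hG := good_of_finrank_ne (hQ.hypN (m + 1)) (by omega)
  have hN : ∀ s, algebraMap F (KA a b) (normForm a b s) = s * starRingEnd (KA a b) s := fun s => by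
    rw [normForm_apply, QuadraticAlgebra.algebraMap_norm_eq_mul_star]; rfl
  have h4 : 4 ≤ Nat.card (KA a b) := by
    rw [card_KA]; exact Nat.pow_le_pow_left (Finite.one_lt_card (α := F)) 2
  have e := (commCongr (congrO ((minusEquiv F (m + 1)).trans ((LinearEquiv.refl F _).prodCongr
    ((LinearEquiv.refl F _).prodCongr (QuadraticAlgebra.linearEquivTuple (-b) a).symm)))
    (Q := QMinus (m + 1) a b) (Q' := hypN (m + 1) (normForm a b)) fun v => by
      rw [← hypN_minusEquiv, hypN_apply, hypN_apply, ← binForm_tuple]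
      exact congrArg (_ + binForm a b ·) (LinearEquiv.apply_symm_apply _ _))).symm
  exact (mult_of_le (hQ.hypN (m + 1)) (by omega) fun Δ _ τ hτ =>
    card_ker_le hQ _ star_star hN hG (ce_of_stem hτ) hτ.2.2
      (kerPP (p := p) hQ _ star_star hN hG (ce_of_stem hτ) hτ.2.2 (by omega) (Or.inl h4))).imp
    (fun h h' => H78.Schur.hasSchurMultiplier_of_equiv (h h') e)
    fun h h' => H78.Schur.hasSchurMultiplier_of_equiv (h h') e

end H63.St.Orth
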